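import Mathlib
import Groth.Agent.HorrocksLib.Idem
import Groth.Agent.HenselLib.Criteria

/-!
# Approximation of idempotent matrices over Laurent series
-/

set_option autoImplicit false

open Matrix
open scoped TensorProduct

universe u

namespace Groth.Agent.LaurentApproxLib

open Groth.Agent.HorrocksLib

variable {R : Type u} [CommRing R]

local notation "ι" => HahnSeries.ofPowerSeries ℤ R

theorem isUnit_one_add_smul {A : Type*} [CommRing A] (t : A) (h : ∀ a, IsUnit (1 + t * a))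
    {p : Type} [Fintype p] [DecidableEq p] (D : Matrix p p A) : IsUnit (1 + t • D) := by
  rw [Matrix.isUnit_iff_isUnit_det]
  have h0 : Ideal.Quotient.mk (Ideal.span {t}) (1 + t • D).det = 1 := by
    have e : (Ideal.Quotient.mk (Ideal.span {t})).mapMatrix (1 + t • D) = 1 := by
      rw [map_add, map_one, RingHom.mapMatrix_apply]
      ext i j
      rw [Matrix.add_apply, Matrix.map_apply, Matrix.smul_apply, smul_eq_mul, map_mul,
        Ideal.Quotient.eq_zero_iff_mem.2 (Ideal.mem_span_singleton_self t), zero_mul, add_zero]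
    rw [RingHom.map_det, e, Matrix.det_one]
  rw [← map_one (Ideal.Quotient.mk (Ideal.span {t})), Ideal.Quotient.eq] at h0
  obtain ⟨a, ha⟩ := Ideal.mem_span_singleton'.1 h0
  rw [← sub_add_cancel (1 + t • D).det 1, ← ha, add_comm, mul_comm]
  exact h a

/-- Divisible by the `N`-th power of the variable. -/
def Sm {p q : Type} (N : ℤ) (u : Matrix p q (LaurentSeries R)) : Prop :=
  ∃ g : Matrix p q (PowerSeries R), u = (HahnSeries.single N (1 : R) : LaurentSeries R) • g.map ι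

theorem smul_map {p q : Type} (f : PowerSeries R) (g : Matrix p q (PowerSeries R)) :
    (f • g).map ι = ι f • g.map ι := by
  ext i j; simp

theorem Sm.mono {p q : Type} {N M : ℤ} {u : Matrix p q (LaurentSeries R)} (h : Sm N u) (hle : M ≤ N) : Sm M u := by
  obtain ⟨g, rfl⟩ := h
  obtain ⟨d, hd⟩ : ∃ d : ℕ, N = M + d := ⟨(N - M).toNat, by omega⟩
  refine ⟨(PowerSeries.X : PowerSeries R) ^ d • g, ?_⟩
  rw [smul_map, map_pow, HahnSeries.ofPowerSeries_X, HahnSeries.single_pow, smul_smul, HahnSeries.single_mul_single,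
    one_pow, mul_one, hd]
  simp

theorem Sm.add {p q : Type} {N : ℤ} {u v : Matrix p q (LaurentSeries R)} (h : Sm N u) (h' : Sm N v) : Sm N (u + v) := by
  obtain ⟨g, rfl⟩ := h
  obtain ⟨g', rfl⟩ := h'
  exact ⟨g + g', by rw [Matrix.map_add _ (map_add ι), smul_add]⟩

theorem Sm.neg {p q : Type} {N : ℤ} {u : Matrix p q (LaurentSeries R)} (h : Sm N u) : Sm N (-u) := by
  obtain ⟨g, rfl⟩ := h
  exact ⟨-g, by ext i j; simp⟩

theorem Sm.sub {p q : Type} {N : ℤ} {u v : Matrix p q (LaurentSeries R)} (h : Sm N u) (h' : Sm N v) : Sm N (u - v) := by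
  rw [sub_eq_add_neg]; exact h.add h'.neg

theorem Sm.mul {p q r : Type} [Fintype q] {N M : ℤ} {u : Matrix p q (LaurentSeries R)}
    {v : Matrix q r (LaurentSeries R)} (h : Sm N u) (h' : Sm M v) : Sm (N + M) (u * v) := by
  obtain ⟨g, rfl⟩ := h
  obtain ⟨g', rfl⟩ := h'
  refine ⟨g * g', ?_⟩
  rw [Matrix.smul_mul, Matrix.mul_smul, smul_smul, HahnSeries.single_mul_single, mul_one, Matrix.map_mul]

theorem sm_map {p q : Type} (g : Matrix p q (PowerSeries R)) : Sm 0 (g.map ι) :=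
  ⟨g, by simp⟩

theorem sm_one {p : Type} [DecidableEq p] : Sm 0 (1 : Matrix p p (LaurentSeries R)) :=
  ⟨1, by rw [Matrix.map_one _ (map_zero _) (map_one _)]; simp⟩

theorem exists_sm {p q : Type} [Fintype p] [Fintype q] (u : Matrix p q (LaurentSeries R)) :
    ∃ a : ℕ, Sm (-(a : ℤ)) u := by
  classical
  set a : ℕ := Finset.univ.sup fun x : p × q => (-(u x.1 x.2).order).toNat with ha
  refine ⟨a, Matrix.of fun i j =>
    (PowerSeries.X : PowerSeries R) ^ ((u i j).order + a).toNat * LaurentSeries.powerSeriesPart (u i j), ?_⟩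
  ext1 i j
  have hle : (-(u i j).order).toNat ≤ a :=
    Finset.le_sup (f := fun x : p × q => (-(u x.1 x.2).order).toNat) (Finset.mem_univ (i, j))
  rw [Matrix.smul_apply, Matrix.map_apply, Matrix.of_apply, map_mul, map_pow, HahnSeries.ofPowerSeries_X,
    HahnSeries.single_pow, one_pow, smul_eq_mul, ← mul_assoc, HahnSeries.single_mul_single, mul_one]
  conv_lhs => rw [← LaurentSeries.single_order_mul_powerSeriesPart (u i j)]
  congr 2
  simp only [nsmul_eq_mul, mul_one]
  clear_value a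
  congr 1
  omega

theorem eqv_of_sm {p : Type} [Fintype p] [DecidableEq p] {e e' : Matrix p p (LaurentSeries R)}
    (he : e * e = e) (he' : e' * e' = e') {a : ℕ} (ha : Sm (-(a : ℤ)) e) (h : Sm ((a : ℤ) + 1) (e' - e)) :
    Eqv e e' := by
  set u := 1 + (e + e - 1) * (e' - e) with hu
  obtain ⟨g, hg⟩ : Sm 1 ((e + e - 1) * (e' - e)) :=
    ((((ha.add ha).sub (sm_one.mono (by omega))).mul h).mono (by omega))
  have hX : (HahnSeries.single (1 : ℤ) (1 : R) : LaurentSeries R) = ι (PowerSeries.X) :=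
    (HahnSeries.ofPowerSeries_X).symm
  have hU : IsUnit u := by
    have h1 : u = (ι).mapMatrix (1 + (PowerSeries.X : PowerSeries R) • g) := by
      rw [hu, hg, hX, ← smul_map, map_add (ι).mapMatrix, map_one (ι).mapMatrix]
      rfl
    rw [h1]
    refine IsUnit.map _ (isUnit_one_add_smul _ (fun f => PowerSeries.isUnit_iff_constantCoeff.2 ?_) g)
    simp
  have h1 : e * u = e * e' := by
    rw [hu]
    simp only [Matrix.mul_add, Matrix.mul_sub, Matrix.sub_mul, Matrix.add_mul, Matrix.mul_one, Matrix.one_mul, ← Matrix.mul_assoc, he]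
    abel
  have h2 : u * e' = e * e' := by
    rw [hu]
    simp only [Matrix.mul_sub, Matrix.sub_mul, Matrix.add_mul, Matrix.one_mul, Matrix.mul_assoc, he']
    simp only [← Matrix.mul_assoc, he]
    abel
  refine ⟨e * u, (↑hU.unit⁻¹ : Matrix p p (LaurentSeries R)) * e, ?_, ?_⟩
  · rw [Matrix.mul_assoc, ← Matrix.mul_assoc u, IsUnit.mul_val_inv, Matrix.one_mul, he]
  · rw [Matrix.mul_assoc, ← Matrix.mul_assoc e, he, h1, ← h2, ← Matrix.mul_assoc, IsUnit.val_inv_mul, Matrix.one_mul]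

/-- A dense subring of Laurent series. -/
structure Setup (R : Type u) [CommRing R] (L : Type u) [CommRing L] where
  A : Type u
  [ring : CommRing A]
  [alg : Algebra A L]
  t : A
  ψ : A →+* PowerSeries R
  ε : L →+* LaurentSeries R
  hε : ∀ a, ε (algebraMap A L a) = HahnSeries.ofPowerSeries ℤ R (ψ a)
  ht : ψ t = PowerSeries.X
  htu : IsUnit (algebraMap A L t)
  approx : ∀ (f : PowerSeries R) (N : ℕ), ∃ a, (PowerSeries.X : PowerSeries R) ^ N ∣ f - ψ a
  ker : ∀ (a : A) (N : ℕ), (PowerSeries.X : PowerSeries R) ^ N ∣ ψ a → t ^ N ∣ a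
  jac : ∀ a, IsUnit (1 + t * a)
  surj : ∀ l : L, ∃ (a : A) (k : ℕ), l * algebraMap A L t ^ k = algebraMap A L a

attribute [instance] Setup.ring Setup.alg

namespace Setup

variable {L : Type u} [CommRing L] (S : Setup R L)

theorem ε_t (k : ℕ) : S.ε (algebraMap S.A L S.t ^ k) = HahnSeries.single (k : ℤ) (1 : R) := by
  rw [map_pow, S.hε, S.ht, HahnSeries.ofPowerSeries_X, HahnSeries.single_pow, one_pow]
  simp

theorem map_ε {p q : Type} (D : Matrix p q S.A) :
    (D.map (algebraMap S.A L)).map S.ε = (D.map S.ψ).map ι := by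
  ext1 i j; exact S.hε _

theorem exists_approx {p q : Type} [Fintype p] [Fintype q] (u : Matrix p q (LaurentSeries R)) (N : ℕ) :
    ∃ u0 : Matrix p q L, Sm (N : ℤ) (u0.map S.ε - u) := by
  obtain ⟨a, g, rfl⟩ := exists_sm u
  choose x hx using fun i j => S.approx (g i j) (N + a)
  choose c hc using hx
  refine ⟨(↑(S.htu.pow a).unit⁻¹ : L) • (Matrix.of x).map (algebraMap S.A L), -Matrix.of c, ?_⟩
  have hinv : S.ε (↑(S.htu.pow a).unit⁻¹ : L) = HahnSeries.single (-(a : ℤ)) (1 : R) := by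
    have h1 : S.ε (↑(S.htu.pow a).unit⁻¹ : L) * HahnSeries.single (a : ℤ) (1 : R) = 1 := by
      rw [← S.ε_t, ← map_mul, IsUnit.val_inv_mul, map_one]
    calc S.ε (↑(S.htu.pow a).unit⁻¹ : L)
        = S.ε (↑(S.htu.pow a).unit⁻¹ : L) * (HahnSeries.single (a : ℤ) (1 : R) * HahnSeries.single (-(a : ℤ)) (1 : R)) := by
          rw [HahnSeries.single_mul_single, add_neg_cancel, mul_one, HahnSeries.single_zero_one, mul_one]
      _ = _ := by rw [← mul_assoc, h1, one_mul]
  ext1 i j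
  simp only [Matrix.sub_apply, Matrix.map_apply, Matrix.smul_apply, Matrix.of_apply, Matrix.neg_apply, smul_eq_mul,
    map_mul, map_neg, hinv, S.hε]
  have h := congr_arg ι (hc i j)
  rw [map_sub, map_mul, map_pow, HahnSeries.ofPowerSeries_X, HahnSeries.single_pow, one_pow] at h
  rw [← mul_sub, show ι (S.ψ (x i j)) - ι (g i j) = -(ι (g i j) - ι (S.ψ (x i j))) by ring, h, mul_neg, ← mul_assoc,
    HahnSeries.single_mul_single, mul_one, mul_neg]
  congr 3
  simp

theorem exists_eq_of_sm {p q : Type} (D : Matrix p q L) (N : ℕ) (h : Sm (N : ℤ) (D.map S.ε)) :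
    ∃ D0 : Matrix p q S.A, D = algebraMap S.A L S.t ^ N • D0.map (algebraMap S.A L) := by
  obtain ⟨g, hg⟩ := h
  choose x k hxk using fun i j => S.surj (D i j)
  have hd : ∀ i j, S.t ^ (N + k i j) ∣ x i j := fun i j => by
    refine S.ker _ _ ⟨g i j, HahnSeries.ofPowerSeries_injective (Γ := ℤ) (R := R) ?_⟩
    rw [← S.hε, ← hxk, map_mul, show S.ε (D i j) = _ from congrFun (congrFun hg i) j, S.ε_t, Matrix.smul_apply,
      Matrix.map_apply, smul_eq_mul, map_mul, map_pow, HahnSeries.ofPowerSeries_X, HahnSeries.single_pow, one_pow,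
      mul_right_comm, HahnSeries.single_mul_single, mul_one]
    simp
  choose y hy using hd
  refine ⟨Matrix.of y, ?_⟩
  ext1 i j
  refine (S.htu.pow (k i j)).mul_left_injective ?_
  show D i j * algebraMap S.A L S.t ^ k i j = (algebraMap S.A L S.t ^ N * algebraMap S.A L (y i j)) * algebraMap S.A L S.t ^ k i j
  rw [hxk, hy, map_mul, map_pow, pow_add]
  ring

/-- A small perturbation of the identity is invertible, with small error. -/
theorem exists_inv {p : Type} [Fintype p] [DecidableEq p] (D : Matrix p p L) {K : ℕ} (hK : 1 ≤ K)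
    (h : Sm (K : ℤ) (D.map S.ε)) :
    ∃ H : Matrix p p L, (1 + D) * H = 1 ∧ H * (1 + D) = 1 ∧ Sm 0 (H.map S.ε) := by
  obtain ⟨K, rfl⟩ : ∃ K', K = K' + 1 := ⟨K - 1, by omega⟩
  obtain ⟨D0, hD0⟩ := S.exists_eq_of_sm D _ h
  obtain ⟨H0, hH⟩ := isUnit_one_add_smul S.t S.jac (S.t ^ K • D0)
  have e1 : (algebraMap S.A L).mapMatrix (H0 : Matrix p p S.A) = 1 + D := by
    rw [hH, map_add, map_one, RingHom.mapMatrix_apply, hD0]
    congr 1
    ext i j
    simp [pow_succ]; ring
  refine ⟨(algebraMap S.A L).mapMatrix (↑H0⁻¹ : Matrix p p S.A), ?_, ?_, ?_⟩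
  · rw [← e1, ← map_mul, Units.mul_inv, map_one]
  · rw [← e1, ← map_mul, Units.inv_mul, map_one]
  · rw [RingHom.mapMatrix_apply, S.map_ε]; exact sm_map _

theorem eqv_of_eqv_laurent {p q : Type} [Fintype p] [Fintype q] [DecidableEq p] [DecidableEq q]
    {e : Matrix p p L} {f : Matrix q q L} (he : e * e = e) (hf : f * f = f)
    (h : Eqv (e.map S.ε) (f.map S.ε)) : Eqv e f := by
  obtain ⟨u, v, h1, h2, h3, h4, h5, h6⟩ := h.normal (idem_map _ he) (idem_map _ hf)
  obtain ⟨a₁, ha₁⟩ := exists_sm u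
  obtain ⟨a₂, ha₂⟩ := exists_sm v
  obtain ⟨b₁, hb₁⟩ := exists_sm (e.map S.ε)
  obtain ⟨b₂, hb₂⟩ := exists_sm (f.map S.ε)
  set a := a₁ + a₂ + b₁ + b₂ with ha
  obtain ⟨u1, hu1⟩ := S.exists_approx u (3 * a + 1)
  obtain ⟨v1, hv1⟩ := S.exists_approx v (3 * a + 1)
  set u0 := e * u1 * f with hu0
  set v0 := f * v1 * e with hv0
  have hdu : Sm ((a : ℤ) + 1) (u0.map S.ε - u) := by
    have : u0.map S.ε - u = e.map S.ε * (u1.map S.ε - u) * f.map S.ε := by
      rw [hu0, Matrix.map_mul, Matrix.map_mul, Matrix.mul_sub, Matrix.sub_mul, h3, h4]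
    rw [this]
    exact ((hb₁.mul hu1).mul hb₂).mono (by push_cast; omega)
  have hdv : Sm ((a : ℤ) + 1) (v0.map S.ε - v) := by
    have : v0.map S.ε - v = f.map S.ε * (v1.map S.ε - v) * e.map S.ε := by
      rw [hv0, Matrix.map_mul, Matrix.map_mul, Matrix.mul_sub, Matrix.sub_mul, h5, h6]
    rw [this]
    exact ((hb₂.mul hv1).mul hb₁).mono (by push_cast; omega)
  have hsmu : Sm (-(a : ℤ)) (u0.map S.ε) := by
    rw [← sub_add_cancel (u0.map S.ε) u]; exact (hdu.mono (by omega)).add (ha₁.mono (by omega))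
  have hsmv : Sm (-(a : ℤ)) (v0.map S.ε) := by
    rw [← sub_add_cancel (v0.map S.ε) v]; exact (hdv.mono (by omega)).add (ha₂.mono (by omega))
  have heu : e * u0 = u0 := by rw [hu0, ← Matrix.mul_assoc, ← Matrix.mul_assoc, he]
  have huf : u0 * f = u0 := by rw [hu0, Matrix.mul_assoc, hf]
  have hfv : f * v0 = v0 := by rw [hv0, ← Matrix.mul_assoc, ← Matrix.mul_assoc, hf]
  have hve : v0 * e = v0 := by rw [hv0, Matrix.mul_assoc, he]
  have hD : Sm 1 ((u0 * v0 - e).map S.ε) := by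
    have : (u0 * v0 - e).map S.ε = (u0.map S.ε - u) * v0.map S.ε + u * (v0.map S.ε - v) := by
      rw [Matrix.map_sub _ (map_sub S.ε), Matrix.map_mul, ← h1, Matrix.sub_mul, Matrix.mul_sub]; abel
    rw [this]
    exact ((hdu.mul hsmv).mono (by omega)).add ((ha₁.mul hdv).mono (by omega))
  have hD' : Sm 1 ((v0 * u0 - f).map S.ε) := by
    have : (v0 * u0 - f).map S.ε = (v0.map S.ε - v) * u0.map S.ε + v * (u0.map S.ε - u) := by
      rw [Matrix.map_sub _ (map_sub S.ε), Matrix.map_mul, ← h2, Matrix.sub_mul, Matrix.mul_sub]; abel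
    rw [this]
    exact ((hdv.mul hsmu).mono (by omega)).add ((ha₂.mul hdu).mono (by omega))
  obtain ⟨G, hG1, -, -⟩ := S.exists_inv (u0 * v0 - e) le_rfl hD
  obtain ⟨H, -, hH2, -⟩ := S.exists_inv (v0 * u0 - f) le_rfl hD'
  have eG : u0 * v0 = e * (1 + (u0 * v0 - e)) := by
    rw [Matrix.mul_add, Matrix.mul_one, Matrix.mul_sub, he, ← Matrix.mul_assoc e u0 v0, heu]; abel
  have fH : v0 * u0 = (1 + (v0 * u0 - f)) * f := by
    rw [Matrix.add_mul, Matrix.one_mul, Matrix.sub_mul, hf, Matrix.mul_assoc v0 u0 f, huf]; abel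
  have r1 : u0 * (v0 * G) = e := by rw [← Matrix.mul_assoc, eG, Matrix.mul_assoc, hG1, Matrix.mul_one]
  have r2 : (H * v0) * u0 = f := by rw [Matrix.mul_assoc, fH, ← Matrix.mul_assoc, hH2, Matrix.one_mul]
  have r3 : H * v0 = v0 * G := by
    calc H * v0 = (H * v0) * (u0 * (v0 * G)) := by rw [r1, Matrix.mul_assoc, hve]
      _ = v0 * G := by rw [← Matrix.mul_assoc, r2, ← Matrix.mul_assoc, hfv]
  exact ⟨u0, v0 * G, r1, r3 ▸ r2⟩

theorem exists_stablyFree {m n : ℕ} (u : Matrix (Fin n) (Fin m) (LaurentSeries R))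
    (v : Matrix (Fin m) (Fin n) (LaurentSeries R)) (huv : u * v = 1) :
    ∃ (u0 : Matrix (Fin n) (Fin m) L) (v0 : Matrix (Fin m) (Fin n) L), u0 * v0 = 1 ∧
      Eqv ((1 - v0 * u0).map S.ε) (1 - v * u) := by
  obtain ⟨a₁, ha₁⟩ := exists_sm u
  obtain ⟨a₂, ha₂⟩ := exists_sm v
  set a := a₁ + a₂ with ha
  set N := 6 * a + 1 with hN
  obtain ⟨u0, hu⟩ := S.exists_approx u N
  obtain ⟨v1, hv⟩ := S.exists_approx v N
  have hsu : Sm (-(a : ℤ)) (u0.map S.ε) := by
    rw [← sub_add_cancel (u0.map S.ε) u]; exact (hu.mono (by omega)).add (ha₁.mono (by omega))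
  have hsv : Sm (-(a : ℤ)) (v1.map S.ε) := by
    rw [← sub_add_cancel (v1.map S.ε) v]; exact (hv.mono (by omega)).add (ha₂.mono (by omega))
  have hD : Sm ((N - a : ℕ) : ℤ) ((u0 * v1 - 1).map S.ε) := by
    have : (u0 * v1 - 1).map S.ε = (u0.map S.ε - u) * v1.map S.ε + u * (v1.map S.ε - v) := by
      rw [Matrix.map_sub _ (map_sub S.ε), Matrix.map_mul, Matrix.map_one _ (map_zero _) (map_one _), ← huv,
        Matrix.sub_mul, Matrix.mul_sub]
      abel
    rw [this]
    exact ((hu.mul hsv).mono (by omega)).add ((ha₁.mul hv).mono (by omega))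
  obtain ⟨H, hH1, hH2, hH⟩ := S.exists_inv _ (K := N - a) (by omega) hD
  rw [add_sub_cancel] at hH1 hH2
  refine ⟨u0, v1 * H, by rw [← Matrix.mul_assoc, hH1], ?_⟩
  have hH' : Sm ((N - a : ℕ) : ℤ) (H.map S.ε - 1) := by
    have : H - 1 = -(H * (u0 * v1 - 1)) := by rw [Matrix.mul_sub, Matrix.mul_one, hH2]; abel
    rw [← Matrix.map_one S.ε (map_zero _) (map_one _), ← Matrix.map_sub _ (map_sub S.ε), this]
    have hneg : ∀ X : Matrix (Fin n) (Fin n) L, (-X).map S.ε = -(X.map S.ε) := fun X => by ext i j; simp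
    rw [hneg, Matrix.map_mul]
    exact ((hH.mul hD).mono (by omega)).neg
  have hsub : Sm ((2 * a : ℕ) + 1 : ℤ) ((1 - v * u) - (1 - v1 * H * u0).map S.ε) := by
    have : (1 - v * u) - (1 - v1 * H * u0).map S.ε =
        (v1.map S.ε - v) * u + v1.map S.ε * (H.map S.ε - 1) * u + v1.map S.ε * H.map S.ε * (u0.map S.ε - u) := by
      rw [Matrix.map_sub _ (map_sub S.ε), Matrix.map_one _ (map_zero _) (map_one _), Matrix.map_mul, Matrix.map_mul]
      simp only [Matrix.mul_sub, Matrix.sub_mul, Matrix.mul_one]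
      abel
    rw [this]
    refine ((hv.mul ha₁).mono (by push_cast; omega)).add ?_ |>.add ?_
    · exact ((hsv.mul hH').mul ha₁).mono (by push_cast; omega)
    · exact ((hsv.mul hH).mul hu).mono (by push_cast; omega)
  have hcl : Sm (-((2 * a : ℕ) : ℤ)) ((1 - v1 * H * u0).map S.ε) := by
    rw [Matrix.map_sub _ (map_sub S.ε), Matrix.map_one _ (map_zero _) (map_one _), Matrix.map_mul, Matrix.map_mul]
    exact (sm_one.mono (by omega)).sub (((hsv.mul hH).mul hsu).mono (by push_cast; omega))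
  refine eqv_of_sm (idem_map _ ?_) ?_ hcl hsub
  · refine IsIdempotentElem.one_sub ?_
    show v1 * H * u0 * (v1 * H * u0) = v1 * H * u0
    rw [Matrix.mul_assoc (v1 * H) u0, ← Matrix.mul_assoc u0 (v1 * H), ← Matrix.mul_assoc u0 v1, hH1, Matrix.one_mul]
  · refine IsIdempotentElem.one_sub ?_
    show v * u * (v * u) = v * u
    rw [Matrix.mul_assoc v u, ← Matrix.mul_assoc u v, huv, Matrix.one_mul]

end Setup

end Groth.Agent.LaurentApproxLib
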