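import Groth.Agent.LaurentApproxLib.Basic

/-!
# Lifting idempotent matrices from Laurent series
-/

set_option autoImplicit false

open Matrix Polynomial
open scoped TensorProduct

universe u v

namespace Groth.Agent.LaurentApproxLib

open Groth.Agent.HorrocksLib

/-- A small almost idempotent defect can be corrected. -/
theorem exists_correction {A : Type u} [CommRing A] (I : Ideal A) [HenselianRing A I] {n : Type} [Fintype n]
    [DecidableEq n] (c : Matrix n n A) (hc : ∀ i j, c i j ∈ I) :
    ∃ p : A[X], c + (1 + (c + c + c + c)) * (aeval c p * aeval c p - aeval c p) = 0 ∧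
      ∀ i j, aeval c p i j ∈ I := by
  classical
  rcases subsingleton_or_nontrivial A with hA | hA
  · exact ⟨0, Subsingleton.elim _ _, fun i j => by rw [Subsingleton.elim (aeval c (0 : A[X]) i j) 0]; exact I.zero_mem⟩
  let π := Ideal.Quotient.mk I
  haveI : Nontrivial (A ⧸ I) := Ideal.Quotient.nontrivial_iff.mpr fun h => by
    have h1 : IsUnit ((1 : A) * (-1) + 1) :=
      Ideal.mem_jacobson_bot.1 (HenselianRing.jac (I := I) (h ▸ Submodule.mem_top)) (-1)
    simp at h1
  let b : Matrix (n ⊕ n) (n ⊕ n) A := fromBlocks 0 c 1 1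
  let T : Matrix (n ⊕ n) (n ⊕ n) A := b * b - b
  have hT : T = fromBlocks c 0 0 c := by
    ext (i | i) (j | j) <;> simp [T, b, fromBlocks_multiply]
  have hTπ : T.map π = 0 := by
    have hc0 : c.map π = 0 := by ext i j; exact Ideal.Quotient.eq_zero_iff_mem.2 (hc i j)
    rw [hT, fromBlocks_map, hc0, Matrix.map_zero _ (map_zero π), fromBlocks_zero]
  have hP : ∀ i < T.charpoly.natDegree, T.charpoly.coeff i ∈ I := fun i hi => by
    rw [← Ideal.Quotient.eq_zero_iff_mem, ← Polynomial.coeff_map, ← Matrix.charpoly_map, hTπ,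
      Matrix.charpoly_zero, Polynomial.coeff_X_pow, if_neg]
    rw [Matrix.charpoly_natDegree_eq_dim] at hi
    omega
  obtain ⟨E, hE, hEq⟩ := HenselLib.exists_idem_polynomial.{u, u, u} (I := I) b T.charpoly T.charpoly_monic hP
    (Matrix.aeval_self_charpoly T)
  have hblock : ∀ F : A[X], ∃ p q : A[X],
      aeval b F = fromBlocks (aeval c p) (c * aeval c q) (aeval c q) (aeval c p + aeval c q) := by
    intro F
    induction F using Polynomial.induction_on with
    | C a =>
      refine ⟨Polynomial.C a, 0, ?_⟩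
      ext (i | i) (j | j) <;> simp [Matrix.algebraMap_matrix_apply]
    | add F G hF hG =>
      obtain ⟨p, q, h⟩ := hF
      obtain ⟨p', q', h'⟩ := hG
      refine ⟨p + p', q + q', ?_⟩
      rw [map_add, h, h', fromBlocks_add, map_add, map_add, mul_add, add_add_add_comm (aeval c p) (aeval c q)]
    | monomial k a hk =>
      obtain ⟨p, q, h⟩ := hk
      refine ⟨Polynomial.X * q, p + q, ?_⟩
      have comm : ∀ r : A[X], aeval c r * c = c * aeval c r := fun r => by
        have h1 : aeval c (r * Polynomial.X) = aeval c (Polynomial.X * r) := by rw [mul_comm]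
        rwa [map_mul, map_mul, aeval_X] at h1
      rw [pow_succ, ← mul_assoc, map_mul, h, aeval_X, fromBlocks_multiply, map_mul, aeval_X, map_add,
        Matrix.mul_zero, Matrix.mul_zero, zero_add, Matrix.mul_one, zero_add, Matrix.mul_one]
      simp only [comm]
      congr 1
      rw [mul_add]
  obtain ⟨p, q, hpq⟩ := hblock E
  have hq : (aeval b E).map π = b.map π := by
    refine hEq (Ideal.Quotient.mkₐ A I).mapMatrix (fun a ha => ?_) ?_
    · ext i j
      rw [Matrix.algebraMap_matrix_apply, Matrix.zero_apply]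
      split_ifs
      · exact Ideal.Quotient.eq_zero_iff_mem.2 ha
      · rfl
    · show b.map π * b.map π = b.map π
      rw [← Matrix.map_mul, ← sub_eq_zero, ← Matrix.map_sub _ (map_sub π)]
      exact hTπ
  rw [hpq, fromBlocks_map, fromBlocks_map] at hq
  obtain ⟨q11, -, q21, -⟩ := fromBlocks_inj.1 hq
  rw [Matrix.map_zero _ (map_zero π)] at q11
  rw [Matrix.map_one _ (map_zero π) (map_one π)] at q21
  have hβu : IsUnit (aeval c q) := by
    rw [Matrix.isUnit_iff_isUnit_det]
    have h1 : π (aeval c q).det = 1 := by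
      rw [RingHom.map_det, RingHom.mapMatrix_apply, q21, Matrix.det_one]
    rw [← map_one π, Ideal.Quotient.eq] at h1
    have := Ideal.mem_jacobson_bot.1 (HenselianRing.jac (I := I) h1) 1
    rwa [mul_one, sub_add_cancel] at this
  have hid : aeval b E * aeval b E = aeval b E := hE
  rw [hpq, fromBlocks_multiply] at hid
  obtain ⟨e11, -, e21, -⟩ := fromBlocks_inj.1 hid
  set α := aeval c p with hα
  set β := aeval c q with hβ
  have cαβ : α * β = β * α := by rw [hα, hβ, ← map_mul, ← map_mul, mul_comm]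
  have cαc : α * c = c * α := by
    have h1 : aeval c (p * Polynomial.X) = aeval c (Polynomial.X * p) := by rw [mul_comm]
    rwa [map_mul, map_mul, aeval_X] at h1
  have hsum : α + α + β = 1 := by
    refine hβu.mul_left_cancel ?_
    rw [mul_one, mul_add, mul_add]
    rw [add_mul, cαβ, ← add_assoc] at e21
    exact e21
  refine ⟨p, ?_, fun i j => ?_⟩
  · have hβ' : β = 1 - (α + α) := by rw [← hsum]; abel
    rw [← hα]
    rw [hβ', mul_assoc] at e11
    have key : c + (1 + (c + c + c + c)) * (α * α - α) =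
        (α * α + c * ((1 - (α + α)) * (1 - (α + α)))) - α := by
      noncomm_ring
    rw [key, e11, sub_self]
  · rw [← Ideal.Quotient.eq_zero_iff_mem]
    exact congrFun (congrFun q11 i) j

variable {R : Type u} [CommRing R] {L : Type u} [CommRing L]

namespace Setup

theorem exists_idempotent (S : Setup R L) [HenselianRing S.A (Ideal.span {S.t})] {n : Type} [Fintype n] [DecidableEq n]
    {e' : Matrix n n (LaurentSeries R)} (he' : e' * e' = e') :
    ∃ e : Matrix n n L, e * e = e ∧ Eqv (e.map S.ε) e' := by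
  obtain ⟨a, ha⟩ := exists_sm e'
  set N := 4 * a + 2 with hN
  obtain ⟨e0, h0⟩ := S.exists_approx e' N
  have hs0 : Sm (-(a : ℤ)) (e0.map S.ε) := by
    rw [← sub_add_cancel (e0.map S.ε) e']; exact (h0.mono (by omega)).add ha
  set C := e0 * e0 - e0 with hC
  have hCs : Sm ((N - a : ℕ) : ℤ) (C.map S.ε) := by
    have : C.map S.ε = (e0.map S.ε - e') * e0.map S.ε + e' * (e0.map S.ε - e') - (e0.map S.ε - e') := by
      rw [hC, Matrix.map_sub _ (map_sub S.ε), Matrix.map_mul, Matrix.sub_mul, Matrix.mul_sub, he']; abel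
    rw [this]
    exact (((h0.mul hs0).mono (by omega)).add ((ha.mul h0).mono (by omega))).sub (h0.mono (by omega))
  obtain ⟨c0, hc0⟩ := S.exists_eq_of_sm C _ hCs
  set K := N - a with hK
  set c := S.t ^ K • c0 with hc
  have hCc : c.map (algebraMap S.A L) = C := by
    rw [hc0, hc]; ext i j; simp
  obtain ⟨p, hp, hpI⟩ := exists_correction (Ideal.span {S.t}) c (fun i j => by
    rw [hc, Matrix.smul_apply, smul_eq_mul]
    exact Ideal.mul_mem_right _ _ (Ideal.pow_mem_of_mem _ (Ideal.mem_span_singleton_self _) _ (by omega)))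
  set α := aeval c p with hα
  choose α1 hα1 using fun i j => Ideal.mem_span_singleton'.1 (hpI i j)
  obtain ⟨U, hU⟩ := (isUnit_one_add_smul S.t S.jac (-(Matrix.of α1)))
  have hU' : (U : Matrix n n S.A) = 1 - α := by
    rw [hU]; ext i j; simp [← hα1, mul_comm, sub_eq_add_neg]
  have hαK : ∃ α0, α = S.t ^ K • α0 := by
    refine ⟨(c0 * (1 + (α * α - α + (α * α - α) + (α * α - α) + (α * α - α)))) * (↑U⁻¹ : Matrix n n S.A), ?_⟩
    have h1 : c * (1 + (α * α - α + (α * α - α) + (α * α - α) + (α * α - α))) = α * (U : Matrix n n S.A) := by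
      have e : c * (1 + (α * α - α + (α * α - α) + (α * α - α) + (α * α - α))) - α * (1 - α) =
          c + (1 + (c + c + c + c)) * (α * α - α) := by noncomm_ring
      rw [hU', ← sub_eq_zero, e, hp]
    have h2 := congr_arg (· * (↑U⁻¹ : Matrix n n S.A)) h1
    rw [mul_assoc α, Units.mul_inv, mul_one, hc, Matrix.smul_mul, Matrix.smul_mul] at h2
    exact h2.symm
  obtain ⟨α0, hα0⟩ := hαK
  set αL := (algebraMap S.A L).mapMatrix α with hαL
  have hpL : C + (1 + (C + C + C + C)) * (αL * αL - αL) = 0 := by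
    have h := congr_arg (algebraMap S.A L).mapMatrix hp
    rw [map_add, map_mul, map_add, map_add, map_add, map_add, map_one, map_sub, map_mul, map_zero] at h
    rw [RingHom.mapMatrix_apply, hCc] at h
    exact h
  have hcomm : αL * e0 = e0 * αL := by
    have h1 : αL = aeval C (p.map (algebraMap S.A L)) := by
      rw [hαL, hα, RingHom.mapMatrix_apply]
      show (aeval c p).map (Algebra.ofId S.A L) = _
      rw [← AlgHom.mapMatrix_apply, ← Polynomial.aeval_algHom_apply, AlgHom.mapMatrix_apply]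
      show aeval (c.map (algebraMap S.A L)) p = _
      rw [hCc, Polynomial.aeval_map_algebraMap]
    have h2 : aeval C (p.map (algebraMap S.A L)) = aeval e0 ((p.map (algebraMap S.A L)).comp (Polynomial.X ^ 2 - Polynomial.X)) := by
      rw [aeval_comp]; simp [hC, pow_two]
    rw [h1, h2]
    generalize ((p.map (algebraMap S.A L)).comp (Polynomial.X ^ 2 - Polynomial.X)) = P
    have h3 : aeval e0 (P * Polynomial.X) = aeval e0 (Polynomial.X * P) := by rw [mul_comm]
    rwa [map_mul, map_mul, aeval_X] at h3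
  set e := e0 + (1 - (e0 + e0)) * αL with he
  have hidem : e * e = e := by
    have hx : αL * (1 - (e0 + e0)) = (1 - (e0 + e0)) * αL := by
      rw [mul_sub, sub_mul, mul_add, add_mul, hcomm, mul_one, one_mul]
    have e1 : (e0 + (1 - (e0 + e0)) * αL) * (e0 + (1 - (e0 + e0)) * αL) =
        e0 * e0 + e0 * ((1 - (e0 + e0)) * αL) + (1 - (e0 + e0)) * (αL * e0)
          + (1 - (e0 + e0)) * (αL * (1 - (e0 + e0))) * αL := by noncomm_ring
    rw [he, e1, hcomm, hx, ← sub_eq_zero, ← hpL, hC]
    noncomm_ring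
  refine ⟨e, hidem, ?_⟩
  have hsα : Sm (K : ℤ) (αL.map S.ε) := by
    refine ⟨α0.map S.ψ, ?_⟩
    rw [hαL, RingHom.mapMatrix_apply, hα0]
    ext i j
    simp [S.hε, S.ht, HahnSeries.single_pow]
  have hse : Sm ((a : ℤ) + 1) (e' - e.map S.ε) := by
    have : e' - e.map S.ε = -((e0.map S.ε - e') + (1 - (e0.map S.ε + e0.map S.ε)) * αL.map S.ε) := by
      rw [he, Matrix.map_add _ (map_add S.ε), Matrix.map_mul, Matrix.map_sub _ (map_sub S.ε),
        Matrix.map_one _ (map_zero _) (map_one _), Matrix.map_add _ (map_add S.ε)]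
      abel
    rw [this]
    exact ((h0.mono (by omega)).add ((((sm_one.mono (by omega)).sub (hs0.add hs0)).mul hsα).mono (by omega))).neg
  refine eqv_of_sm (idem_map _ hidem) he' ?_ hse
  rw [show e.map S.ε = e' - (e' - e.map S.ε) from (sub_sub_cancel _ _).symm]
  exact ha.sub (hse.mono (by omega))

end Setup

section modules

variable {L' : Type u} [CommRing L'] [Algebra L L'] (eq : L' ≃+* LaurentSeries R)

theorem injective_modules (S : Setup R L) (hε : ∀ l, eq (algebraMap L L' l) = S.ε l)
    {M N : Type u} [AddCommGroup M] [Module L M] [Module.Finite L M] [Module.Projective L M]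
    [AddCommGroup N] [Module L N] [Module.Finite L N] [Module.Projective L N]
    (φ : L' ⊗[L] M ≃ₗ[L'] L' ⊗[L] N) : Nonempty (M ≃ₗ[L] N) := by
  obtain ⟨n, e, ⟨P⟩⟩ := exists_pres (R := L) (M := M)
  obtain ⟨n', f, ⟨P'⟩⟩ := exists_pres (R := L) (M := N)
  refine P.nonempty_equiv P' (S.eqv_of_eqv_laurent P.idem P'.idem ?_)
  have h := Eqv.map eq.toRingHom ((P.baseChange L').eqv (P'.baseChange L') φ)
  rwa [Matrix.map_map, Matrix.map_map, show ((eq.toRingHom : L' → LaurentSeries R) ∘ algebraMap L L') = S.ε from funext hε] at h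

theorem descend (S : Setup R L) (hε : ∀ l, eq (algebraMap L L' l) = S.ε l) {M' : Type u} [AddCommGroup M'] [Module L' M']
    {m : ℕ} {e : Matrix (Fin m) (Fin m) L} (he : e * e = e) {e' : Matrix (Fin m) (Fin m) L'} (P' : Pres e' M')
    (h : Eqv (e.map S.ε) (e'.map eq)) :
    Nonempty (L' ⊗[L] LinearMap.range e.mulVecLin ≃ₗ[L'] M') := by
  refine ((presRange he).baseChange L').nonempty_equiv P' ?_
  have h1 := Eqv.map eq.symm.toRingHom h
  rw [Matrix.map_map, Matrix.map_map] at h1
  have e2 : ((eq.symm.toRingHom : LaurentSeries R → L') ∘ (eq : L' → LaurentSeries R)) = id := funext fun x => eq.symm_apply_apply x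
  have e3 : ((eq.symm.toRingHom : LaurentSeries R → L') ∘ (S.ε : L → LaurentSeries R)) = algebraMap L L' := funext fun x => by
    show eq.symm (S.ε x) = _
    rw [← hε, eq.symm_apply_apply]
  rwa [e2, e3, Matrix.map_id] at h1

theorem surjective_projective (S : Setup R L) [HenselianRing S.A (Ideal.span {S.t})]
    (hε : ∀ l, eq (algebraMap L L' l) = S.ε l) (M' : Type u) [AddCommGroup M'] [Module L' M'] [Module.Finite L' M']
    [Module.Projective L' M'] :
    ∃ (M : Type u) (_ : AddCommGroup M) (_ : Module L M), Module.Finite L M ∧ Module.Projective L M ∧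
      Nonempty (L' ⊗[L] M ≃ₗ[L'] M') := by
  obtain ⟨n, e', ⟨P'⟩⟩ := exists_pres (R := L') (M := M')
  obtain ⟨e, he, h⟩ := S.exists_idempotent (idem_map eq.toRingHom P'.idem)
  exact ⟨LinearMap.range e.mulVecLin, inferInstance, inferInstance, (presRange he).finite, (presRange he).projective,
    descend eq S hε he P' h⟩

theorem surjective_stablyFree (S : Setup R L) (hε : ∀ l, eq (algebraMap L L' l) = S.ε l) (M' : Type u) [AddCommGroup M']
    [Module L' M'] {n m : ℕ} (φ : (M' × (Fin n → L')) ≃ₗ[L'] (Fin m → L')) :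
    ∃ (M : Type u) (_ : AddCommGroup M) (_ : Module L M), Module.Finite L M ∧
      (∃ n m : ℕ, Nonempty ((M × (Fin n → L)) ≃ₗ[L] (Fin m → L))) ∧ Nonempty (L' ⊗[L] M ≃ₗ[L'] M') := by
  let u := LinearMap.toMatrix' ((LinearMap.snd L' M' (Fin n → L')) ∘ₗ φ.symm.toLinearMap)
  let v := LinearMap.toMatrix' (φ.toLinearMap ∘ₗ LinearMap.inr L' M' (Fin n → L'))
  have huv : u * v = 1 := by
    rw [← LinearMap.toMatrix'_comp]
    convert LinearMap.toMatrix'_id using 2
    ext x; simp
  let P' : Pres (1 - v * u) M' :=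
    { ι := φ.toLinearMap ∘ₗ LinearMap.inl L' M' (Fin n → L')
      π := LinearMap.fst L' M' (Fin n → L') ∘ₗ φ.symm.toLinearMap
      π_ι := fun x => by simp
      ι_π := fun y => by
        rw [Matrix.sub_mulVec, Matrix.one_mulVec, ← Matrix.mulVec_mulVec, LinearMap.toMatrix'_mulVec,
          LinearMap.toMatrix'_mulVec, eq_sub_iff_add_eq]
        simp only [LinearMap.comp_apply, LinearMap.inl_apply, LinearMap.inr_apply, LinearMap.fst_apply,
          LinearMap.snd_apply, LinearEquiv.coe_coe]
        rw [← map_add, Prod.mk_add_mk, add_zero, zero_add, Prod.mk.eta, φ.apply_symm_apply] }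
  obtain ⟨u0, v0, huv0, h⟩ := S.exists_stablyFree (u.map eq) (v.map eq) (by
    have h1 := congr_arg (fun X => X.map eq.toRingHom) huv
    simp only [Matrix.map_mul, Matrix.map_one _ (map_zero _) (map_one _)] at h1
    exact h1)
  have hidem : (1 - v0 * u0) * (1 - v0 * u0) = 1 - v0 * u0 := by
    refine IsIdempotentElem.one_sub ?_
    show v0 * u0 * (v0 * u0) = v0 * u0
    rw [Matrix.mul_assoc v0 u0, ← Matrix.mul_assoc u0 v0, huv0, Matrix.one_mul]
  refine ⟨LinearMap.range (1 - v0 * u0).mulVecLin, inferInstance, inferInstance, (presRange hidem).finite, ⟨n, m, ⟨?_⟩⟩,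
    descend eq S hε hidem P' ?_⟩
  · refine LinearEquiv.ofLinearMap ((LinearMap.range (1 - v0 * u0).mulVecLin).subtype.coprod v0.mulVecLin)
      (((1 - v0 * u0).mulVecLin.rangeRestrict).prod u0.mulVecLin) ?_ ?_
    · refine LinearMap.ext fun x => ?_
      show (1 - v0 * u0) *ᵥ x + v0 *ᵥ (u0 *ᵥ x) = x
      rw [Matrix.mulVec_mulVec, Matrix.sub_mulVec, Matrix.one_mulVec, sub_add_cancel]
    · refine LinearMap.ext fun ⟨⟨_, z, rfl⟩, y⟩ => Prod.ext (Subtype.ext ?_) ?_
      · show (1 - v0 * u0) *ᵥ ((1 - v0 * u0) *ᵥ z + v0 *ᵥ y) = (1 - v0 * u0) *ᵥ z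
        rw [Matrix.mulVec_add, Matrix.mulVec_mulVec, hidem, Matrix.mulVec_mulVec, Matrix.sub_mul, Matrix.one_mul,
          Matrix.mul_assoc, huv0, Matrix.mul_one, sub_self, Matrix.zero_mulVec, add_zero]
      · show u0 *ᵥ ((1 - v0 * u0) *ᵥ z + v0 *ᵥ y) = y
        rw [Matrix.mulVec_add, Matrix.mulVec_mulVec, Matrix.mulVec_mulVec, huv0, Matrix.one_mulVec, Matrix.mul_sub,
          Matrix.mul_one, ← Matrix.mul_assoc, huv0, Matrix.one_mul, sub_self, Matrix.zero_mulVec, zero_add]
  · have e5 : (1 - v * u).map eq = 1 - v.map eq * u.map eq := by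
      show eq.toRingHom.mapMatrix (1 - v * u) = _
      rw [map_sub, map_one, RingHom.mapMatrix_apply, Matrix.map_mul]; rfl
    rw [e5]; exact h

end modules

end Groth.Agent.LaurentApproxLib
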